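import Mathlib

/-!
# Constant sheaves of modules on a site: constant sections (helper2)

For a site `(C, J)` and a ring `Λ`, with `A = ModuleCat Λ`: the constant sheaf `cst M`, its constant
sections `tsec M T : M ⟶ (cst M)(T)`; every section of `cst M` is locally constant
(`exists_sieve_const`), `tsec M T` is injective unless `T` is covered by the empty sieve
(`tsec_injective`), and sheaves have no nonzero sections over objects covered by the empty sieve.
-/

set_option autoImplicit false

universe w v₁ u₁

open CategoryTheory CategoryTheory.Limits Opposite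

namespace Groth.Agent.Lib.Helper2.LCSite

noncomputable section

variable {C : Type u₁} [Category.{v₁} C] (J : GrothendieckTopology C) (Λ : Type w) [CommRing Λ]

section Sheaf

variable {J Λ} [J.HasSheafCompose (forget (ModuleCat.{w} Λ))]

/-- the underlying presheaf of sets of a sheaf of modules is a sheaf -/
lemma isSheaf_forget (F : Sheaf J (ModuleCat.{w} Λ)) :
    Presieve.IsSheaf J (F.obj ⋙ forget (ModuleCat.{w} Λ)) := by
  rw [← isSheaf_iff_isSheaf_of_type]
  exact GrothendieckTopology.HasSheafCompose.isSheaf F.obj F.property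

lemma eq_of_locally_eq {F : Sheaf J (ModuleCat.{w} Λ)} {T : C} (s s' : F.obj.obj (op T))
    (S : Sieve T) (hS : S ∈ J T)
    (h : ∀ {V : C} (f : V ⟶ T), S f → F.obj.map f.op s = F.obj.map f.op s') : s = s' := by
  refine ((isSheaf_forget F) S hS).isSeparatedFor.ext ?_
  intro V f hf
  exact h f hf

/-- objects covered by the empty sieve: all sections of sheaves over them coincide -/
lemma eq_of_bot_mem (F : Sheaf J (ModuleCat.{w} Λ)) {T : C} (hT : (⊥ : Sieve T) ∈ J T)
    (s s' : F.obj.obj (op T)) : s = s' :=
  eq_of_locally_eq s s' ⊥ hT (fun _ hf => hf.elim)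

omit [J.HasSheafCompose (forget (ModuleCat.{w} Λ))] in
lemma bot_mem_of_hom {T T' : C} (f : T' ⟶ T) (hT : (⊥ : Sieve T) ∈ J T) :
    (⊥ : Sieve T') ∈ J T' := by
  have h := J.pullback_stable f hT
  have e : Sieve.pullback f (⊥ : Sieve T) = ⊥ := by
    ext V g
    simp
  rwa [e] at h

end Sheaf

variable [HasWeakSheafify J (ModuleCat.{w} Λ)] [J.WEqualsLocallyBijective (ModuleCat.{w} Λ)]

/-- the constant sheaf -/
abbrev cst (M : ModuleCat.{w} Λ) : Sheaf J (ModuleCat.{w} Λ) :=
  (constantSheaf J (ModuleCat.{w} Λ)).obj M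

/-- the constant sections of the constant sheaf -/
def tsec (M : ModuleCat.{w} Λ) (T : C) : M ⟶ (cst J Λ M).obj.obj (op T) :=
  (toSheafify J ((Functor.const Cᵒᵖ).obj M)).app (op T)

variable {Λ}

lemma tsec_map (M : ModuleCat.{w} Λ) {T T' : C} (f : T' ⟶ T) (m : M) :
    (cst J Λ M).obj.map f.op (tsec J Λ M T m) = tsec J Λ M T' m := by
  have := (toSheafify J ((Functor.const Cᵒᵖ).obj M)).naturality f.op
  have h2 := congrArg (fun φ => φ.hom m) this
  simp only [Functor.const_obj_obj, Functor.const_obj_map, Category.id_comp] at h2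
  exact h2.symm

lemma tsec_naturality {M N : ModuleCat.{w} Λ} (h : M ⟶ N) (T : C) (m : M) :
    ((constantSheaf J (ModuleCat.{w} Λ)).map h).hom.app (op T) (tsec J Λ M T m) =
      tsec J Λ N T (h m) := by
  have := toSheafify_naturality J ((Functor.const Cᵒᵖ).map h)
  have h2 := congrArg (fun φ => (φ.app (op T)).hom m) this
  exact h2.symm

/-- every section of a constant sheaf is locally constant -/
lemma exists_sieve_const (M : ModuleCat.{w} Λ) {T : C} (s : (cst J Λ M).obj.obj (op T)) :
    ∃ S ∈ J T, ∀ {V : C} (f : V ⟶ T), S f →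
      ∃ m : M, tsec J Λ M V m = (cst J Λ M).obj.map f.op s := by
  refine ⟨Presheaf.imageSieve (toSheafify J ((Functor.const Cᵒᵖ).obj M)) s,
    Presheaf.imageSieve_mem J (toSheafify J ((Functor.const Cᵒᵖ).obj M)) s, ?_⟩
  intro V f hf
  obtain ⟨m, hm⟩ := hf
  exact ⟨m, hm⟩

/-- the constant sections map is injective over an object not covered by the empty sieve -/
lemma tsec_injective (M : ModuleCat.{w} Λ) {T : C} (hT : (⊥ : Sieve T) ∉ J T) :
    Function.Injective (tsec J Λ M T) := by
  intro m m' h
  have h1 := Presheaf.equalizerSieve_mem J (toSheafify J ((Functor.const Cᵒᵖ).obj M))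
    (X := op T) m m' h
  by_contra hne
  apply hT
  have e : Presheaf.equalizerSieve (F := (Functor.const Cᵒᵖ).obj M) (X := op T) m m' = ⊥ := by
    ext V f
    simp only [Presheaf.equalizerSieve_apply, Sieve.bot_apply, iff_false]
    exact hne
  rwa [e] at h1

end

end Groth.Agent.Lib.Helper2.LCSite
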