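import Groth.Agent.Lib.Helper2.LCSite.LocalHom
import Groth.Prelude.Def_EtMod2
import Groth.Agent.Lib.Helper22.CechU.EtaleCov

/-!
# Finite type locally constant sheaves of modules on the small étale site: local form of maps
(helper2)
-/

set_option autoImplicit false

universe u

open CategoryTheory CategoryTheory.Limits Opposite AlgebraicGeometry

namespace Groth.Agent.Lib.Helper2.LCSite.Et

open Groth.Agent.Lib.Helper22.CechU.Etale Groth.Agent.Lib.Helper2.LCSite

noncomputable section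

variable (Λ : Type (u + 1)) [CommRing Λ] {X : Scheme.{u}}

/-- the constant sheaf functor on the localised small étale site -/
abbrev cstF (V : X.Etale) : ModuleCat.{u + 1} Λ ⥤ Sheaf (X.smallEtaleTopology.over V) (ModuleCat.{u + 1} Λ) :=
  constantSheaf (X.smallEtaleTopology.over V) (ModuleCat.{u + 1} Λ)

/-- restriction of sheaves from `Et/V` to `Et/W` along `g : W ⟶ V` -/
abbrev resMap {W V : X.Etale} (g : W ⟶ V) :
    Sheaf (X.smallEtaleTopology.over V) (ModuleCat.{u + 1} Λ) ⥤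
      Sheaf (X.smallEtaleTopology.over W) (ModuleCat.{u + 1} Λ) :=
  (Over.map g).sheafPushforwardContinuous (ModuleCat.{u + 1} Λ) (X.smallEtaleTopology.over W)
    (X.smallEtaleTopology.over V)

/-- restriction of sheaves commutes with the constant sheaf functor -/
def constResIso {W V : X.Etale} (g : W ⟶ V) : cstF Λ W ≅ cstF Λ V ⋙ resMap Λ g :=
  Functor.isoWhiskerLeft (Functor.const (Over V)ᵒᵖ)
    ((Over.map g).pushforwardContinuousSheafificationCompatibility (ModuleCat.{u + 1} Λ)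
      (X.smallEtaleTopology.over W) (X.smallEtaleTopology.over V))

variable {Λ}

/-- transport of a trivialisation along `g : W ⟶ V` -/
def transIso {W V : X.Etale} (g : W ⟶ V) (F : EtModW.Mod Λ X) (M : ModuleCat.{u + 1} Λ)
    (α : F.over V ≅ (cstF Λ V).obj M) : F.over W ≅ (cstF Λ W).obj M :=
  (resMap Λ g).mapIso α ≪≫ ((constResIso Λ g).app M).symm

/-- the canonical morphism to the final object of the small étale site -/
def topHom (U : X.Etale) : U ⟶ EtCoh.top X :=
  MorphismProperty.Over.homMk U.hom (Category.comp_id _) trivial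

lemma hom_left_base_eq {W V : X.Etale} (k : W ⟶ V) (y : W.left) :
    V.hom.base (k.left.base y) = W.hom.base y := by
  have h : k.left ≫ V.hom = W.hom := Over.w k.hom
  rw [← h]
  rfl

/-- common refinement of two étale coverings, pointwise -/
lemma exists_common {ι ι' : Type u} (U : ι → X.Etale) (U' : ι' → X.Etale) (hU : EtCoh.Covers U)
    (hU' : EtCoh.Covers U') (x : X) :
    ∃ (V : X.Etale) (y : V.left) (i : ι) (j : ι'), V.hom.base y = x ∧
      Nonempty (V ⟶ U i) ∧ Nonempty (V ⟶ U' j) := by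
  have h1 : Sieve.ofObjects U (EtCoh.top X) ∈ X.smallEtaleTopology (EtCoh.top X) := by
    rw [mem_smallEtaleTopology_iff]
    intro x
    obtain ⟨i, y, hy⟩ := hU x
    exact ⟨U i, topHom (U i), y, (Sieve.mem_ofObjects_iff _ _).2 ⟨i, ⟨𝟙 _⟩⟩, hy⟩
  have h2 : Sieve.ofObjects U' (EtCoh.top X) ∈ X.smallEtaleTopology (EtCoh.top X) := by
    rw [mem_smallEtaleTopology_iff]
    intro x
    obtain ⟨i, y, hy⟩ := hU' x
    exact ⟨U' i, topHom (U' i), y, (Sieve.mem_ofObjects_iff _ _).2 ⟨i, ⟨𝟙 _⟩⟩, hy⟩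
  have h3 := X.smallEtaleTopology.intersection_covering h1 h2
  rw [mem_smallEtaleTopology_iff] at h3
  obtain ⟨V, f, y, ⟨hf1, hf2⟩, hy⟩ := h3 x
  obtain ⟨i, hi⟩ := (Sieve.mem_ofObjects_iff _ _).1 hf1
  obtain ⟨j, hj⟩ := (Sieve.mem_ofObjects_iff _ _).1 hf2
  refine ⟨V, y, i, j, ?_, hi, hj⟩
  rw [← hom_left_base_eq f y]
  exact hy

/-- transport of a trivialisation along `g : W ⟶ V`, for sheaves on `Et/V` -/
def transIso' {W V : X.Etale} (g : W ⟶ V)
    (F' : Sheaf (X.smallEtaleTopology.over V) (ModuleCat.{u + 1} Λ)) (M : ModuleCat.{u + 1} Λ)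
    (α : F' ≅ (cstF Λ V).obj M) : (resMap Λ g).obj F' ≅ (cstF Λ W).obj M :=
  (resMap Λ g).mapIso α ≪≫ ((constResIso Λ g).app M).symm

lemma transIso'_comm {W V : X.Etale} (g : W ⟶ V)
    {F' G' : Sheaf (X.smallEtaleTopology.over V) (ModuleCat.{u + 1} Λ)} (φ' : F' ⟶ G')
    (M N : ModuleCat.{u + 1} Λ) (α : F' ≅ (cstF Λ V).obj M) (β : G' ≅ (cstF Λ V).obj N)
    (h : M ⟶ N)
    (key : (resMap Λ g).map (α.inv ≫ φ' ≫ β.hom) = (resMap Λ g).map ((cstF Λ V).map h)) :
    (resMap Λ g).map φ' ≫ (transIso' g G' N β).hom =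
      (transIso' g F' M α).hom ≫ (cstF Λ W).map h := by
  have nat' : (cstF Λ W).map h ≫ ((constResIso Λ g).app N).hom =
      ((constResIso Λ g).app M).hom ≫ (resMap Λ g).map ((cstF Λ V).map h) :=
    (constResIso Λ g).hom.naturality h
  have e2 : φ' ≫ β.hom = α.hom ≫ (α.inv ≫ φ' ≫ β.hom) := by simp
  unfold transIso'
  simp only [Iso.trans_hom, Functor.mapIso_hom, Iso.symm_hom]
  rw [← Category.assoc, ← Functor.map_comp, e2, Functor.map_comp, key, Category.assoc,
    Category.assoc]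
  congr 1
  rw [← cancel_mono ((constResIso Λ g).app N).hom, Category.assoc, Category.assoc, Iso.inv_hom_id,
    Category.comp_id, nat', Iso.inv_hom_id_assoc]

/-- **local form of a map between trivialised sheaves**: after a further étale localisation
around any point, the map is induced by a linear map -/
theorem exists_local_data {F G : EtModW.Mod Λ X} (φ : F ⟶ G) {V : X.Etale}
    (M N : ModuleCat.{u + 1} Λ) [Module.Finite Λ M] (α : F.over V ≅ (cstF Λ V).obj M)
    (β : G.over V ≅ (cstF Λ V).obj N) (y : V.left) :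
    ∃ (W : X.Etale) (g : W ⟶ V) (z : W.left), g.left.base z = y ∧ ∃ h : M ⟶ N,
      (X.smallEtaleTopology.overPullback (ModuleCat.{u + 1} Λ) W).map φ ≫
          (transIso g G N β).hom =
        (transIso g F M α).hom ≫ (cstF Λ W).map h := by
  let ψ : (cstF Λ V).obj M ⟶ (cstF Λ V).obj N :=
    α.inv ≫ (X.smallEtaleTopology.overPullback (ModuleCat.{u + 1} Λ) V).map φ ≫ β.hom
  obtain ⟨S, hS, hSp⟩ := exists_local_linear (X.smallEtaleTopology.over V) M N ψ
    (Over.mk (𝟙 V))
  rw [GrothendieckTopology.mem_over_iff, mem_smallEtaleTopology_iff] at hS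
  obtain ⟨W, f, z, hf, hz⟩ := hS y
  rw [Sieve.overEquiv_iff] at hf
  obtain ⟨h, hh⟩ := hSp _ hf
  -- the localisation morphism
  let g : W ⟶ V := (Over.mk (f ≫ (Over.mk (𝟙 V)).hom)).hom
  refine ⟨W, g, z, ?_, h, ?_⟩
  · have : g = f := Category.comp_id f
    rw [this]
    exact hz
  · have key : (resMap Λ g).map ψ = (resMap Λ g).map ((cstF Λ V).map h) := by
      apply Sheaf.hom_ext
      apply NatTrans.ext
      funext Z
      exact hh (W := (Over.map g).obj Z.unop) (Over.homMk Z.unop.hom rfl)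
    exact transIso'_comm g ((X.smallEtaleTopology.overPullback (ModuleCat.{u + 1} Λ) V).map φ)
      M N α β h key

/-- **a map between finite type locally constant sheaves of modules is, étale locally around every
point, a map of constant sheaves induced by a linear map** -/
theorem ftLocConst_hom_local {F G : EtModW.Mod Λ X} (φ : F ⟶ G)
    (hF : EtModW.IsFTLocConst Λ F) (hG : EtModW.IsFTLocConst Λ G) (x : X) :
    ∃ (W : X.Etale) (z : W.left), W.hom.base z = x ∧
      ∃ (M N : ModuleCat.{u + 1} Λ) (_ : Module.Finite Λ M) (_ : Module.Finite Λ N) (h : M ⟶ N)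
        (α : F.over W ≅ (cstF Λ W).obj M) (β : G.over W ≅ (cstF Λ W).obj N),
        (X.smallEtaleTopology.overPullback (ModuleCat.{u + 1} Λ) W).map φ ≫ β.hom =
          α.hom ≫ (cstF Λ W).map h := by
  obtain ⟨ι, U, hU, hFU⟩ := hF
  obtain ⟨ι', U', hU', hGU'⟩ := hG
  obtain ⟨V, y, i, j, hy, ⟨k⟩, ⟨k'⟩⟩ := exists_common U U' hU hU' x
  obtain ⟨M, iM1, iM2, iM3, ⟨α₀⟩⟩ := hFU i
  obtain ⟨N, iN1, iN2, iN3, ⟨β₀⟩⟩ := hGU' j
  let α : F.over V ≅ (cstF Λ V).obj (ModuleCat.of Λ M) := transIso k F (ModuleCat.of Λ M) α₀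
  let β : G.over V ≅ (cstF Λ V).obj (ModuleCat.of Λ N) := transIso k' G (ModuleCat.of Λ N) β₀
  haveI : Module.Finite Λ (ModuleCat.of Λ M) := iM3
  obtain ⟨W, g, z, hz, h, hh⟩ := exists_local_data φ (ModuleCat.of Λ M) (ModuleCat.of Λ N) α β y
  refine ⟨W, z, ?_, ModuleCat.of Λ M, ModuleCat.of Λ N, iM3, iN3, h, transIso g F _ α,
    transIso g G _ β, hh⟩
  rw [← hy, ← hz]
  exact (hom_left_base_eq g z).symm

end

end Groth.Agent.Lib.Helper2.LCSite.Et
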