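import Groth.Agent.Lib.Helper2.LCSite.LocalHom

/-!
# Extensions of constant sheaves of modules on a site (helper2)

* `nonempty_iso_cst_of_sections`: criterion, in terms of sections over a final object, for the
  middle term of a short exact sequence with constant ends to be constant.
-/

set_option autoImplicit false

universe w v₁ u₁

open CategoryTheory CategoryTheory.Limits Opposite

namespace Groth.Agent.Lib.Helper2.LCSite

noncomputable section

variable {D : Type u₁} [Category.{v₁} D] (K : GrothendieckTopology D) {Λ : Type w} [CommRing Λ]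
  [HasSheafify K (ModuleCat.{w} Λ)] [K.WEqualsLocallyBijective (ModuleCat.{w} Λ)]
  [K.HasSheafCompose (forget (ModuleCat.{w} Λ))]

section Lift

variable {top : D} (hT : IsTerminal top)

/-- two maps out of a constant sheaf agreeing on constant sections are equal -/
lemma cst_hom_ext {M : ModuleCat.{w} Λ} {G : Sheaf K (ModuleCat.{w} Λ)} {a b : cst K Λ M ⟶ G}
    (h : ∀ (T : D) (m : M), a.hom.app (op T) (tsec K Λ M T m) = b.hom.app (op T) (tsec K Λ M T m)) :
    a = b := by
  apply Sheaf.hom_ext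
  apply sheafify_hom_ext _ _ _ G.property
  ext T m
  exact h T.unop m

variable {K}

/-- the presheaf map underlying `cstLift` -/
def cstLiftPre {M : ModuleCat.{w} Λ} {G : Sheaf K (ModuleCat.{w} Λ)}
    (σ : M ⟶ G.obj.obj (op top)) : (Functor.const Dᵒᵖ).obj M ⟶ G.obj where
  app T := σ ≫ G.obj.map (hT.from T.unop).op
  naturality T T' f := by
    dsimp
    rw [Category.id_comp, Category.assoc, ← Functor.map_comp]
    congr 2
    exact congrArg Quiver.Hom.op (hT.hom_ext _ _)

/-- the map out of a constant sheaf determined by a linear map to sections over the final object -/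
def cstLift {M : ModuleCat.{w} Λ} {G : Sheaf K (ModuleCat.{w} Λ)}
    (σ : M ⟶ G.obj.obj (op top)) : cst K Λ M ⟶ G :=
  ⟨sheafifyLift K (cstLiftPre hT σ) G.property⟩

lemma cstLift_tsec {M : ModuleCat.{w} Λ} {G : Sheaf K (ModuleCat.{w} Λ)}
    (σ : M ⟶ G.obj.obj (op top)) (T : D) (m : M) :
    (cstLift hT σ).hom.app (op T) (tsec K Λ M T m) = G.obj.map (hT.from T).op (σ m) := by
  have h := toSheafify_sheafifyLift K (cstLiftPre hT σ) G.property
  exact congrArg (fun φ => (φ.app (op T)).hom m) h

lemma map_from_tsec (M : ModuleCat.{w} Λ) (T : D) (m : M) :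
    (cst K Λ M).obj.map (hT.from T).op (tsec K Λ M top m) = tsec K Λ M T m :=
  tsec_map K M (hT.from T) m

lemma hom_map_from {F G : Sheaf K (ModuleCat.{w} Λ)} (a : F ⟶ G) (T : D)
    (s : F.obj.obj (op top)) :
    a.hom.app (op T) (F.obj.map (hT.from T).op s) =
      G.obj.map (hT.from T).op (a.hom.app (op top) s) :=
  hom_naturality_apply K a (hT.from T) s

variable [PreservesFiniteLimits (constantSheaf K (ModuleCat.{w} Λ))]
  [PreservesFiniteColimits (constantSheaf K (ModuleCat.{w} Λ))]

include hT in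
/-- **Criterion for an extension of constant sheaves to be constant**, in terms of sections over
the final object. -/
theorem nonempty_iso_cst_of_sections (S : ShortComplex (Sheaf K (ModuleCat.{w} Λ)))
    (hS : S.ShortExact) (R : ShortComplex (ModuleCat.{w} Λ)) (hR : R.ShortExact)
    (β₁ : cst K Λ R.X₁ ≅ S.X₁) (β₃ : cst K Λ R.X₃ ≅ S.X₃)
    (σ : R.X₂ ⟶ S.X₂.obj.obj (op top))
    (ha : ∀ e : R.X₂, S.g.hom.app (op top) (σ e) =
      β₃.hom.hom.app (op top) (tsec K Λ R.X₃ top (R.g e)))
    (hb : ∀ m : R.X₁, σ (R.f m) = S.f.hom.app (op top)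
      (β₁.hom.hom.app (op top) (tsec K Λ R.X₁ top m))) :
    Nonempty (cst K Λ R.X₂ ≅ S.X₂) := by
  have hR' : (R.map (constantSheaf K (ModuleCat.{w} Λ))).ShortExact := hR.map_of_exact (constantSheaf K (ModuleCat.{w} Λ))
  have c12 : (R.map (constantSheaf K (ModuleCat.{w} Λ))).f ≫ cstLift hT σ = β₁.hom ≫ S.f := by
    apply cst_hom_ext
    intro T m
    change (cstLift hT σ).hom.app (op T) (((constantSheaf K (ModuleCat.{w} Λ)).map R.f).hom.app (op T) (tsec K Λ R.X₁ T m)) =
      S.f.hom.app (op T) (β₁.hom.hom.app (op T) (tsec K Λ R.X₁ T m))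
    rw [tsec_naturality, cstLift_tsec, hb, ← hom_map_from hT, ← hom_map_from hT, map_from_tsec]
  have c23 : cstLift hT σ ≫ S.g = (R.map (constantSheaf K (ModuleCat.{w} Λ))).g ≫ β₃.hom := by
    apply cst_hom_ext
    intro T e
    change S.g.hom.app (op T) ((cstLift hT σ).hom.app (op T) (tsec K Λ R.X₂ T e)) =
      β₃.hom.hom.app (op T) (((constantSheaf K (ModuleCat.{w} Λ)).map R.g).hom.app (op T) (tsec K Λ R.X₂ T e))
    rw [tsec_naturality, cstLift_tsec, hom_map_from hT, ha, ← hom_map_from hT, map_from_tsec]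
  let φ : R.map (constantSheaf K (ModuleCat.{w} Λ)) ⟶ S :=
    { τ₁ := β₁.hom
      τ₂ := cstLift hT σ
      τ₃ := β₃.hom
      comm₁₂ := c12.symm
      comm₂₃ := c23 }
  have h1 : IsIso φ.τ₁ := inferInstanceAs (IsIso β₁.hom)
  have h3 : IsIso φ.τ₃ := inferInstanceAs (IsIso β₃.hom)
  have h2 : IsIso φ.τ₂ := ShortComplex.isIso₂_of_shortExact_of_isIso₁₃ φ hR' hS
  exact ⟨@asIso _ _ _ _ (cstLift hT σ) h2⟩

end Lift

end

end Groth.Agent.Lib.Helper2.LCSite
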