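import Mathlib

/-!
# An extension of modules built from lifted generators (helper2)

Pure algebra: given `a : M → Z` injective, `b : Z → Z₃` with `b ∘ a = 0`, `t : N → Z₃`,
generators `n j` of `N` and lifts `e j ∈ Z` with `b (e j) = t (n j)` such that every relation among
the `n j` is sent by the `e j` into the image of `a`, there is an extension
`0 → M → E → N → 0` with a map `σ : E → Z` compatible with `a` and `t`.
-/

set_option autoImplicit false

universe w

namespace Groth.Agent.Lib.Helper2.LCSite.PushExt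

variable {Λ : Type w} [CommRing Λ] {M N Z Z₃ : Type w} [AddCommGroup M] [AddCommGroup N]
  [AddCommGroup Z] [AddCommGroup Z₃] [Module Λ M] [Module Λ N] [Module Λ Z] [Module Λ Z₃]

theorem exists_pushExt [Module.Finite Λ M] {k : ℕ} (n : Fin k → N)
    (hn : Submodule.span Λ (Set.range n) = ⊤)
    (a : M →ₗ[Λ] Z) (b : Z →ₗ[Λ] Z₃) (t : N →ₗ[Λ] Z₃) (e : Fin k → Z)
    (ha : Function.Injective a) (hba : ∀ m, b (a m) = 0) (hbe : ∀ j, b (e j) = t (n j))
    (H : ∀ r : Fin k → Λ, Fintype.linearCombination Λ n r = 0 →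
      ∃ m, a m = Fintype.linearCombination Λ e r) :
    ∃ (E : Type w) (_ : AddCommGroup E) (_ : Module Λ E) (_ : Module.Finite Λ E)
      (i : M →ₗ[Λ] E) (p : E →ₗ[Λ] N) (σ : E →ₗ[Λ] Z),
      Function.Injective i ∧ Function.Surjective p ∧ (∀ x, p x = 0 → ∃ m, i m = x) ∧
        (∀ m, p (i m) = 0) ∧ (∀ m, σ (i m) = a m) ∧ (∀ x, b (σ x) = t (p x)) := by
  classical
  let π : (Fin k → Λ) →ₗ[Λ] N := Fintype.linearCombination Λ n
  let lam : (Fin k → Λ) →ₗ[Λ] Z := Fintype.linearCombination Λ e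
  have hπ : Function.Surjective π := by
    rw [← LinearMap.range_eq_top, Fintype.range_linearCombination, hn]
  have hblam : ∀ v, b (lam v) = t (π v) := by
    intro v
    simp only [lam, π, Fintype.linearCombination_apply, map_sum, map_smul, hbe]
  -- the map `μ` on relations
  choose μ₀ hμ₀ using fun r : LinearMap.ker π => H r.1 r.2
  let μ : LinearMap.ker π →ₗ[Λ] M :=
    { toFun := μ₀
      map_add' := fun x y => by
        apply ha
        rw [hμ₀, map_add, hμ₀, hμ₀]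
        exact map_add lam x.1 y.1
      map_smul' := fun c x => by
        apply ha
        rw [hμ₀, map_smul, hμ₀]
        exact map_smul lam c x.1 }
  have hμ : ∀ r : LinearMap.ker π, a (μ r) = lam r.1 := hμ₀
  let Q : Submodule Λ (M × (Fin k → Λ)) :=
    LinearMap.range (μ.prod (-(LinearMap.ker π).subtype))
  have hQ : ∀ x : M × (Fin k → Λ), x ∈ Q ↔ ∃ r : LinearMap.ker π, (μ r, -r.1) = x := by
    intro x
    constructor
    · rintro ⟨r, rfl⟩
      exact ⟨r, rfl⟩
    · rintro ⟨r, rfl⟩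
      exact ⟨r, rfl⟩
  let i : M →ₗ[Λ] (M × (Fin k → Λ)) ⧸ Q := Q.mkQ ∘ₗ LinearMap.inl Λ M (Fin k → Λ)
  have hp0 : Q ≤ LinearMap.ker (π ∘ₗ LinearMap.snd Λ M (Fin k → Λ)) := by
    intro x hx
    obtain ⟨r, rfl⟩ := (hQ x).1 hx
    rw [LinearMap.mem_ker]
    change π (-r.1) = 0
    rw [map_neg, LinearMap.mem_ker.1 r.2, neg_zero]
  let p : (M × (Fin k → Λ)) ⧸ Q →ₗ[Λ] N := Q.liftQ (π ∘ₗ LinearMap.snd Λ M (Fin k → Λ)) hp0
  have hσ0 : Q ≤ LinearMap.ker (a.coprod lam) := by
    intro x hx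
    obtain ⟨r, rfl⟩ := (hQ x).1 hx
    rw [LinearMap.mem_ker, LinearMap.coprod_apply]
    change a (μ r) + lam (-r.1) = 0
    rw [hμ, map_neg, add_neg_cancel]
  let σ : (M × (Fin k → Λ)) ⧸ Q →ₗ[Λ] Z := Q.liftQ (a.coprod lam) hσ0
  refine ⟨(M × (Fin k → Λ)) ⧸ Q, inferInstance, inferInstance, ?_, i, p, σ, ?_, ?_, ?_, ?_, ?_, ?_⟩
  · exact Module.Finite.of_surjective Q.mkQ (Submodule.mkQ_surjective Q)
  · -- injectivity of `i`
    rw [← LinearMap.ker_eq_bot, LinearMap.ker_eq_bot']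
    intro m hm
    have h1 : ((m, 0) : M × (Fin k → Λ)) ∈ Q := by
      have : Q.mkQ ((m, 0) : M × (Fin k → Λ)) = 0 := hm
      rwa [Submodule.mkQ_apply, Submodule.Quotient.mk_eq_zero] at this
    obtain ⟨r, hr⟩ := (hQ _).1 h1
    have hr1 : μ r = m := congrArg Prod.fst hr
    have hr2 : -r.1 = 0 := congrArg Prod.snd hr
    have hr3 : r = 0 := by
      apply Subtype.ext
      simpa using hr2
    rw [← hr1, hr3, map_zero]
  · -- surjectivity of `p`
    intro y
    obtain ⟨v, rfl⟩ := hπ y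
    exact ⟨Q.mkQ ((0, v) : M × (Fin k → Λ)), rfl⟩
  · -- exactness
    intro x hx
    obtain ⟨⟨m, v⟩, rfl⟩ := Submodule.mkQ_surjective Q x
    have hv : π v = 0 := hx
    let r : LinearMap.ker π := ⟨v, hv⟩
    refine ⟨m + μ r, ?_⟩
    change Q.mkQ ((m + μ r, 0) : M × (Fin k → Λ)) = Q.mkQ (m, v)
    rw [← sub_eq_zero, ← map_sub, Submodule.mkQ_apply, Submodule.Quotient.mk_eq_zero, hQ]
    refine ⟨r, ?_⟩
    ext
    · simp
    · simp [r]
  · intro m
    change π (0 : Fin k → Λ) = 0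
    exact map_zero π
  · intro m
    change a m + lam 0 = a m
    rw [map_zero, add_zero]
  · intro x
    obtain ⟨⟨m, v⟩, rfl⟩ := Submodule.mkQ_surjective Q x
    change b (a m + lam v) = t (π v)
    rw [map_add, hba, zero_add, hblam]

end Groth.Agent.Lib.Helper2.LCSite.PushExt
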