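import Groth.Agent.Lib.Helper2.LCSite.Ext
import Groth.Agent.Lib.Helper2.LCSite.PushExt

/-!
# Extensions of constant sheaves of modules on a site are locally constant (helper2)
-/

set_option autoImplicit false

universe w v₁ u₁

open CategoryTheory CategoryTheory.Limits Opposite

namespace Groth.Agent.Lib.Helper2.LCSite

noncomputable section

variable {D : Type u₁} [Category.{v₁} D] (K : GrothendieckTopology D) {Λ : Type w} [CommRing Λ]
  [HasSheafify K (ModuleCat.{w} Λ)] [K.WEqualsLocallyBijective (ModuleCat.{w} Λ)]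
  [K.HasSheafCompose (forget (ModuleCat.{w} Λ))]

/-- finitely many sections can be lifted, locally, through an epimorphism of sheaves -/
lemma exists_sieve_lift {F G : Sheaf K (ModuleCat.{w} Λ)} (φ : F ⟶ G) [Epi φ] {T : D}
    {ι : Type*} [Finite ι] (s : ι → G.obj.obj (op T)) :
    ∃ P ∈ K T, ∀ {Y : D} (f : Y ⟶ T), P f →
      ∀ j, ∃ e : F.obj.obj (op Y), φ.hom.app (op Y) e = G.obj.map f.op (s j) := by
  haveI : Sheaf.IsLocallySurjective φ :=
    (Sheaf.isLocallySurjective_iff_epi' (J := K) (A := ModuleCat.{w} Λ) φ).2 inferInstance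
  refine ⟨⨅ j, Presheaf.imageSieve φ.hom (s j), iInf_mem K _
    (fun j => Presheaf.imageSieve_mem K φ.hom (s j)), ?_⟩
  intro Y f hf j
  have hfj : Presheaf.imageSieve φ.hom (s j) f := by
    have : (⨅ j, Presheaf.imageSieve φ.hom (s j)) ≤ Presheaf.imageSieve φ.hom (s j) :=
      iInf_le _ j
    exact this _ hf
  obtain ⟨e, he⟩ := hfj
  exact ⟨e, he⟩

section Sections

variable {K}
variable {S : ShortComplex (Sheaf K (ModuleCat.{w} Λ))} (hS : S.ShortExact)

include hS

/-- sections of the kernel -/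
lemma exists_of_g_eq_zero (Y : D) (x : S.X₂.obj.obj (op Y)) (hx : S.g.hom.app (op Y) x = 0) :
    ∃ z : S.X₁.obj.obj (op Y), S.f.hom.app (op Y) z = x := by
  let Γ : Sheaf K (ModuleCat.{w} Λ) ⥤ ModuleCat.{w} Λ :=
    sheafToPresheaf K (ModuleCat.{w} Λ) ⋙ (evaluation Dᵒᵖ (ModuleCat.{w} Λ)).obj (op Y)
  haveI : Γ.Additive := by
    dsimp only [Γ]
    infer_instance
  have h1 : (S.map Γ).Exact :=
    hS.exact.map_of_mono_of_preservesKernel Γ hS.mono_f inferInstance
  exact (ShortComplex.moduleCat_exact_iff _).1 h1 x hx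

lemma f_app_injective (Y : D) : Function.Injective (S.f.hom.app (op Y)) := by
  haveI := hS.mono_f
  haveI : Mono ((sheafToPresheaf K (ModuleCat.{w} Λ)).map S.f) := inferInstance
  haveI : Mono (((sheafToPresheaf K (ModuleCat.{w} Λ)).map S.f).app (op Y)) := inferInstance
  exact (ModuleCat.mono_iff_injective _).1 this

end Sections


section LocalExt

variable {K}

omit [HasSheafify K (ModuleCat.{w} Λ)] [K.WEqualsLocallyBijective (ModuleCat.{w} Λ)]
  [K.HasSheafCompose (forget (ModuleCat.{w} Λ))] in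
/-- short exactness in `ModuleCat` from elementwise conditions -/
lemma shortExact_of_linear {M E N : ModuleCat.{w} Λ} (i : M ⟶ E) (p : E ⟶ N) (w : i ≫ p = 0)
    (hi : Function.Injective i) (hp : Function.Surjective p)
    (hex : ∀ x, p x = 0 → ∃ m, i m = x) : (ShortComplex.mk i p w).ShortExact := by
  haveI : Mono (ShortComplex.mk i p w).f := (ModuleCat.mono_iff_injective i).2 hi
  haveI : Epi (ShortComplex.mk i p w).g := (ModuleCat.epi_iff_surjective p).2 hp
  exact ShortComplex.ShortExact.mk ((ShortComplex.moduleCat_exact_iff _).2 hex)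

/-- auxiliary: the relations among the lifted generators come, locally, from constant sections of
the kernel -/
lemma exists_sieve_rel {S : ShortComplex (Sheaf K (ModuleCat.{w} Λ))} (hS : S.ShortExact)
    {M N : ModuleCat.{w} Λ} (α : S.X₁ ≅ cst K Λ M) (β : S.X₃ ≅ cst K Λ N)
    {k l : ℕ} (n : Fin k → N) (r : Fin l → Fin k → Λ)
    (hr : ∀ t, ∑ j, r t j • n j = 0) {Y : D} (e : Fin k → S.X₂.obj.obj (op Y))
    (he : ∀ j, S.g.hom.app (op Y) (e j) = β.inv.hom.app (op Y) (tsec K Λ N Y (n j))) :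
    ∃ P ∈ K Y, ∀ {Y' : D} (g : Y' ⟶ Y), P g → ∀ t, ∃ m : M,
      S.f.hom.app (op Y') (α.inv.hom.app (op Y') (tsec K Λ M Y' m)) =
        S.X₂.obj.map g.op (∑ j, r t j • e j) := by
  have h0 : ∀ t, S.g.hom.app (op Y) (∑ j, r t j • e j) = 0 := by
    intro t
    rw [map_sum]
    simp only [map_smul, he]
    have h1 : (β.inv.hom.app (op Y)) ((tsec K Λ N Y) (∑ j, r t j • n j)) = 0 := by
      rw [hr t, map_zero, map_zero]
    rw [map_sum, map_sum] at h1
    simp only [map_smul] at h1
    exact h1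
  choose z hz using fun t => exists_of_g_eq_zero hS Y _ (h0 t)
  obtain ⟨P, hP, hPa⟩ := exists_sieve_const_fin K M (fun t => α.hom.hom.app (op Y) (z t))
  refine ⟨P, hP, ?_⟩
  intro Y' g hg t
  obtain ⟨m, hm⟩ := hPa g hg t
  refine ⟨m, ?_⟩
  rw [hm, ← hom_naturality_apply, ← hz t, ← hom_naturality_apply]
  congr 1
  have h1 : α.hom ≫ α.inv = 𝟙 _ := α.hom_inv_id
  have h2 := congrArg (fun φ => φ.hom.app (op Y') (S.X₁.obj.map g.op (z t))) h1
  exact h2

/-- **Local structure of an extension of constant sheaves with finitely generated values over a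
Noetherian ring**: locally there is an extension of modules together with a compatible map to the
sections of the middle term. -/
theorem exists_local_ext [IsNoetherianRing Λ] (S : ShortComplex (Sheaf K (ModuleCat.{w} Λ)))
    (hS : S.ShortExact) (M N : ModuleCat.{w} Λ) [Module.Finite Λ M] [Module.Finite Λ N]
    (α : S.X₁ ≅ cst K Λ M) (β : S.X₃ ≅ cst K Λ N) (T : D) :
    ∃ P ∈ K T, ∀ {Y : D} (f : Y ⟶ T), P f →
      ∃ (E : ModuleCat.{w} Λ) (_ : Module.Finite Λ E) (i : M ⟶ E) (p : E ⟶ N) (w : i ≫ p = 0)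
        (_ : (ShortComplex.mk i p w).ShortExact) (σ : E ⟶ S.X₂.obj.obj (op Y)),
        (∀ e : E, S.g.hom.app (op Y) (σ e) = β.inv.hom.app (op Y) (tsec K Λ N Y (p e))) ∧
        (∀ m : M, σ (i m) = S.f.hom.app (op Y) (α.inv.hom.app (op Y) (tsec K Λ M Y m))) := by
  classical
  obtain ⟨k, n, hn⟩ := Module.Finite.exists_fin (R := Λ) (M := N)
  have hker : (LinearMap.ker (Fintype.linearCombination Λ n)).FG := IsNoetherian.noetherian _
  obtain ⟨l, r, hr⟩ := Submodule.fg_iff_exists_fin_generating_family.1 hker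
  have hr0 : ∀ t, ∑ j, r t j • n j = 0 := by
    intro t
    have h1 : r t ∈ LinearMap.ker (Fintype.linearCombination Λ n) := by
      rw [← hr]
      exact Submodule.subset_span ⟨t, rfl⟩
    rw [LinearMap.mem_ker, Fintype.linearCombination_apply] at h1
    exact h1
  haveI := hS.epi_g
  obtain ⟨P₁, hP₁, hP₁'⟩ := exists_sieve_lift K S.g
    (fun j : Fin k => β.inv.hom.app (op T) (tsec K Λ N T (n j)))
  have step2 : ∀ {Y : D} (f : Y ⟶ T), P₁ f → ∃ (e : Fin k → S.X₂.obj.obj (op Y)) (PY : Sieve Y),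
      PY ∈ K Y ∧
      (∀ j, S.g.hom.app (op Y) (e j) = β.inv.hom.app (op Y) (tsec K Λ N Y (n j))) ∧
      ∀ {Y' : D} (g : Y' ⟶ Y), PY g → ∀ t, ∃ m : M,
        S.f.hom.app (op Y') (α.inv.hom.app (op Y') (tsec K Λ M Y' m)) =
          S.X₂.obj.map g.op (∑ j, r t j • e j) := by
    intro Y f hf
    choose e he using hP₁' f hf
    have he' : ∀ j, S.g.hom.app (op Y) (e j) = β.inv.hom.app (op Y) (tsec K Λ N Y (n j)) := by
      intro j
      rw [he j, ← hom_naturality_apply, tsec_map]
    obtain ⟨PY, hPY, hrel⟩ := exists_sieve_rel hS α β n r hr0 e he'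
    exact ⟨e, PY, hPY, he', hrel⟩
  choose e PY hPY he hrel using @step2
  let R : ∀ ⦃Y : D⦄ ⦃f : Y ⟶ T⦄, P₁.arrows f → Sieve Y := fun Y f hf => PY f hf
  have hR : ∀ ⦃Y : D⦄ ⦃f : Y ⟶ T⦄ (H : P₁.arrows f), R H ∈ K Y := fun Y f hf => hPY f hf
  refine ⟨Sieve.bind P₁.arrows R, K.bind_covering hP₁ hR, ?_⟩
  intro Y' h hh
  obtain ⟨Y, g, f, hf, hg, rfl⟩ := hh
  by_cases hbot : (⊥ : Sieve Y') ∈ K Y'
  · -- degenerate case
    refine ⟨ModuleCat.of Λ (M × N), Module.Finite.prod, ModuleCat.ofHom (LinearMap.inl Λ M N),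
      ModuleCat.ofHom (LinearMap.snd Λ M N), ?_, ?_, 0, ?_, ?_⟩
    · ext x
      rfl
    · apply shortExact_of_linear
      · intro x y hxy
        exact congrArg Prod.fst hxy
      · intro y
        exact ⟨((0 : M), y), rfl⟩
      · intro x hx
        refine ⟨x.1, ?_⟩
        change ((x.1, (0 : N)) : M × N) = x
        have hx' : x.2 = 0 := hx
        rw [← hx']
    · intro x
      exact eq_of_bot_mem S.X₃ hbot _ _
    · intro m
      exact eq_of_bot_mem S.X₂ hbot _ _
  · -- main case
    let a : M →ₗ[Λ] S.X₂.obj.obj (op Y') :=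
      (tsec K Λ M Y' ≫ α.inv.hom.app (op Y') ≫ S.f.hom.app (op Y')).hom
    let b : S.X₂.obj.obj (op Y') →ₗ[Λ] S.X₃.obj.obj (op Y') := (S.g.hom.app (op Y')).hom
    let t : N →ₗ[Λ] S.X₃.obj.obj (op Y') := (tsec K Λ N Y' ≫ β.inv.hom.app (op Y')).hom
    let e' : Fin k → S.X₂.obj.obj (op Y') := fun j => S.X₂.obj.map g.op (e f hf j)
    have ha : Function.Injective a := by
      intro m m' hmm
      have h1 : S.f.hom.app (op Y') (α.inv.hom.app (op Y') (tsec K Λ M Y' m)) =
          S.f.hom.app (op Y') (α.inv.hom.app (op Y') (tsec K Λ M Y' m')) := hmm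
      have h2 := f_app_injective hS Y' h1
      have h3 : tsec K Λ M Y' m = tsec K Λ M Y' m' := by
        have h4 := congrArg (fun x => α.hom.hom.app (op Y') x) h2
        have h5 : ∀ x : (cst K Λ M).obj.obj (op Y'),
            α.hom.hom.app (op Y') (α.inv.hom.app (op Y') x) = x := by
          intro x
          exact congrArg (fun φ => φ.hom.app (op Y') x) α.inv_hom_id
        simp only [h5] at h4
        exact h4
      exact tsec_injective K M hbot h3
    have hba : ∀ m, b (a m) = 0 := by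
      intro m
      exact congrArg (fun φ => φ.hom.app (op Y')
        (α.inv.hom.app (op Y') (tsec K Λ M Y' m))) S.zero
    have hbe : ∀ j, b (e' j) = t (n j) := by
      intro j
      change S.g.hom.app (op Y') (S.X₂.obj.map g.op (e f hf j)) =
        β.inv.hom.app (op Y') (tsec K Λ N Y' (n j))
      rw [hom_naturality_apply, he f hf j, ← hom_naturality_apply, tsec_map]
    have H : ∀ r' : Fin k → Λ, Fintype.linearCombination Λ n r' = 0 →
        ∃ m, a m = Fintype.linearCombination Λ e' r' := by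
      have hle : LinearMap.ker (Fintype.linearCombination Λ n) ≤
          Submodule.comap (Fintype.linearCombination Λ e') (LinearMap.range a) := by
        rw [← hr, Submodule.span_le]
        rintro _ ⟨t, rfl⟩
        obtain ⟨m, hm⟩ := hrel f hf g hg t
        refine ⟨m, ?_⟩
        change S.f.hom.app (op Y') (α.inv.hom.app (op Y') (tsec K Λ M Y' m)) = _
        rw [hm, Fintype.linearCombination_apply, map_sum]
        simp only [map_smul]
        rfl
      intro r' hr'
      exact hle hr'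
    obtain ⟨E, _, _, hfin, i, p, σ, hi, hp, hex, hpi, hσi, hσ⟩ :=
      PushExt.exists_pushExt n hn a b t e' ha hba hbe H
    refine ⟨ModuleCat.of Λ E, hfin, ModuleCat.ofHom i, ModuleCat.ofHom p, ?_, ?_,
      ModuleCat.ofHom σ, ?_, ?_⟩
    · ext x
      exact hpi x
    · exact shortExact_of_linear _ _ _ hi hp hex
    · intro x
      exact hσ x
    · intro m
      exact hσi m

end LocalExt

end

end Groth.Agent.Lib.Helper2.LCSite
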