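import Groth.Agent.Lib.Helper2.LCSite.Basic

/-!
# Maps between constant sheaves of modules are locally induced by linear maps (helper2)
-/

set_option autoImplicit false

universe w v₁ u₁

open CategoryTheory CategoryTheory.Limits Opposite

namespace Groth.Agent.Lib.Helper2.LCSite

noncomputable section

variable {C : Type u₁} [Category.{v₁} C] (J : GrothendieckTopology C) {Λ : Type w} [CommRing Λ]

/-- finite intersections of covering sieves are covering -/
lemma iInf_mem {T : C} {ι : Type*} [Finite ι] :
    ∀ (P : ι → Sieve T), (∀ i, P i ∈ J T) → (⨅ i, P i) ∈ J T := by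
  induction ι using Finite.induction_empty_option with
  | of_equiv e ih =>
    intro P hP
    have h := ih (fun a => P (e a)) (fun a => hP (e a))
    rwa [e.iInf_comp] at h
  | h_empty =>
    intro P _
    rw [iInf_of_empty]
    exact J.top_mem T
  | h_option ih =>
    intro P hP
    rw [iInf_option]
    exact J.intersection_covering (hP none) (ih (fun a => P (some a)) (fun a => hP (some a)))

variable [HasWeakSheafify J (ModuleCat.{w} Λ)] [J.WEqualsLocallyBijective (ModuleCat.{w} Λ)]
  [J.HasSheafCompose (forget (ModuleCat.{w} Λ))]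

/-- finitely many sections of a constant sheaf are simultaneously locally constant -/
lemma exists_sieve_const_fin (N : ModuleCat.{w} Λ) {T : C} {ι : Type*} [Finite ι]
    (a : ι → (cst J Λ N).obj.obj (op T)) :
    ∃ S ∈ J T, ∀ {V : C} (f : V ⟶ T), S f →
      ∀ i, ∃ n : N, tsec J Λ N V n = (cst J Λ N).obj.map f.op (a i) := by
  choose P hP hPa using fun i => exists_sieve_const J N (a i)
  refine ⟨⨅ i, P i, iInf_mem J P hP, ?_⟩
  intro V f hf i
  have hfi : P i f := by
    have : (⨅ i, P i) ≤ P i := iInf_le P i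
    exact this _ hf
  exact hPa i f hfi

lemma map_comp_apply' (F : Sheaf J (ModuleCat.{w} Λ)) {A B D : C} (k : A ⟶ B) (l : B ⟶ D)
    (c : F.obj.obj (op D)) :
    F.obj.map (k ≫ l).op c = F.obj.map k.op (F.obj.map l.op c) := by
  rw [op_comp, Functor.map_comp]
  rfl

lemma hom_naturality_apply {F G : Sheaf J (ModuleCat.{w} Λ)} (ψ : F ⟶ G) {A B : C} (k : A ⟶ B)
    (c : F.obj.obj (op B)) :
    ψ.hom.app (op A) (F.obj.map k.op c) = G.obj.map k.op (ψ.hom.app (op B) c) := by
  have := congrArg (fun φ => φ.hom c) (ψ.hom.naturality k.op)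
  exact this

/-- **A map between constant sheaves of modules, with finitely generated source, is locally
induced by a linear map.** -/
theorem exists_local_linear (M N : ModuleCat.{w} Λ) [Module.Finite Λ M]
    (ψ : cst J Λ M ⟶ cst J Λ N) (T : C) :
    ∃ S ∈ J T, ∀ {V : C} (f : V ⟶ T), S f → ∃ h : M ⟶ N, ∀ {W : C} (_ : W ⟶ V),
      ψ.hom.app (op W) = ((constantSheaf J (ModuleCat.{w} Λ)).map h).hom.app (op W) := by
  obtain ⟨n, s, hs⟩ := Module.Finite.exists_fin (R := Λ) (M := M)
  obtain ⟨S, hS, hSa⟩ := exists_sieve_const_fin J N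
    (fun j : Fin n => ψ.hom.app (op T) (tsec J Λ M T (s j)))
  refine ⟨S, hS, ?_⟩
  intro V f hf
  choose nn hnn using hSa f hf
  by_cases hV : (⊥ : Sieve V) ∈ J V
  · refine ⟨0, ?_⟩
    intro W g
    ext x
    exact eq_of_bot_mem (cst J Λ N) (bot_mem_of_hom g hV) _ _
  · have inj := tsec_injective J N hV
    -- the linear map `m ↦ ψ_V (tsec m)`
    let Φ : M →ₗ[Λ] (cst J Λ N).obj.obj (op V) :=
      (ψ.hom.app (op V)).hom ∘ₗ (tsec J Λ M V).hom
    have hgen : ∀ j, Φ (s j) = tsec J Λ N V (nn j) := by
      intro j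
      change ψ.hom.app (op V) (tsec J Λ M V (s j)) = _
      rw [← tsec_map J M f (s j), hom_naturality_apply]
      exact (hnn j).symm
    have hrange : ∀ m : M, ∃ k : N, tsec J Λ N V k = Φ m := by
      intro m
      have hm : m ∈ Submodule.span Λ (Set.range s) := by rw [hs]; trivial
      induction hm using Submodule.span_induction with
      | mem x hx =>
        obtain ⟨j, rfl⟩ := hx
        exact ⟨nn j, (hgen j).symm⟩
      | zero => exact ⟨0, by rw [map_zero, map_zero]⟩
      | add x y _ _ hx hy =>
        obtain ⟨kx, hkx⟩ := hx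
        obtain ⟨ky, hky⟩ := hy
        exact ⟨kx + ky, by rw [map_add, map_add, hkx, hky]⟩
      | smul c x _ hx =>
        obtain ⟨kx, hkx⟩ := hx
        exact ⟨c • kx, by rw [map_smul, map_smul, hkx]⟩
    choose h₀ hh₀ using hrange
    let h : M →ₗ[Λ] N :=
      { toFun := h₀
        map_add' := fun x y => by
          apply inj
          rw [hh₀, map_add, map_add, hh₀, hh₀]
        map_smul' := fun c x => by
          apply inj
          rw [hh₀, map_smul, RingHom.id_apply, map_smul, hh₀] }
    refine ⟨ModuleCat.ofHom h, ?_⟩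
    intro W g
    ext x
    obtain ⟨S', hS', hx⟩ := exists_sieve_const J M x
    refine eq_of_locally_eq _ _ S' hS' ?_
    intro Z e he
    obtain ⟨m, hm⟩ := hx e he
    have e1 : (cst J Λ N).obj.map e.op (ψ.hom.app (op W) x) =
        ψ.hom.app (op Z) (tsec J Λ M Z m) := by
      rw [← hom_naturality_apply, hm]
    have e2 : ψ.hom.app (op Z) (tsec J Λ M Z m) = tsec J Λ N Z (h₀ m) := by
      rw [← tsec_map J M (e ≫ g) m, hom_naturality_apply]
      have : ψ.hom.app (op V) (tsec J Λ M V m) = tsec J Λ N V (h₀ m) := (hh₀ m).symm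
      rw [this, tsec_map]
    have e3 : (cst J Λ N).obj.map e.op
        (((constantSheaf J (ModuleCat.{w} Λ)).map (ModuleCat.ofHom h)).hom.app (op W) x) =
        tsec J Λ N Z (h₀ m) := by
      rw [← hom_naturality_apply, ← hm, tsec_naturality]
      rfl
    exact (e1.trans e2).trans e3.symm

end

end Groth.Agent.Lib.Helper2.LCSite
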