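import Groth.Agent.Lib.Helper2.LCSite.Etale
import Groth.Agent.Lib.Helper2.LCSite.Ext2

/-!
# Finite type locally constant sheaves of modules on the small étale site form a weak Serre
subcategory (Noetherian coefficients) (helper2)
-/

set_option autoImplicit false

universe u

open CategoryTheory CategoryTheory.Limits Opposite AlgebraicGeometry

namespace Groth.Agent.Lib.Helper2.LCSite.Et

open Groth.Agent.Lib.Helper22.CechU.Etale Groth.Agent.Lib.Helper2.LCSite

noncomputable section

variable (Λ : Type (u + 1)) [CommRing Λ] {X : Scheme.{u}}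

instance overPullback_additive (V : X.Etale) :
    (X.smallEtaleTopology.overPullback (ModuleCat.{u + 1} Λ) V).Additive where
  map_add := by
    intros
    rfl

instance overPullback_isLeftAdjoint (V : X.Etale) :
    (X.smallEtaleTopology.overPullback (ModuleCat.{u + 1} Λ) V).IsLeftAdjoint :=
  ((Over.forget V).sheafAdjunctionCocontinuous (ModuleCat.{u + 1} Λ)
    (X.smallEtaleTopology.over V) X.smallEtaleTopology).isLeftAdjoint

instance const_preservesFiniteLimits (V : X.Etale) :
    PreservesFiniteLimits (Functor.const (Over V)ᵒᵖ : ModuleCat.{u + 1} Λ ⥤ _) := by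
  constructor
  intro J _ _
  constructor
  intro K
  apply preservesLimit_of_evaluation
  intro T
  change PreservesLimit K (𝟭 _)
  infer_instance

instance cstF_preservesFiniteLimits (V : X.Etale) : PreservesFiniteLimits (cstF Λ V) := by
  unfold cstF constantSheaf
  infer_instance

variable {Λ}

/-- pointwise criterion for being finite type locally constant -/
lemma isFTLocConst_of_pointwise (F : EtModW.Mod Λ X)
    (h : ∀ x : X, ∃ (W : X.Etale) (z : W.left), W.hom.base z = x ∧
      ∃ (M : ModuleCat.{u + 1} Λ) (_ : Module.Finite Λ M),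
        Nonempty (F.over W ≅ (cstF Λ W).obj M)) : EtModW.IsFTLocConst Λ F := by
  choose W z hz M hM α using h
  refine ⟨X, W, fun x => ⟨x, z x, hz x⟩, fun x => ?_⟩
  exact ⟨M x, inferInstance, inferInstance, hM x, α x⟩

theorem ftLocConst_kernel_cokernel [IsNoetherianRing Λ] {F G : EtModW.Mod Λ X} (φ : F ⟶ G)
    (hF : EtModW.IsFTLocConst Λ F) (hG : EtModW.IsFTLocConst Λ G) :
    EtModW.IsFTLocConst Λ (kernel φ) ∧ EtModW.IsFTLocConst Λ (cokernel φ) := by
  constructor
  · apply isFTLocConst_of_pointwise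
    intro x
    obtain ⟨W, z, hz, M, N, hM, hN, h, α, β, hh⟩ := ftLocConst_hom_local φ hF hG x
    refine ⟨W, z, hz, ModuleCat.of Λ (LinearMap.ker h.hom), ?_, ⟨?_⟩⟩
    · exact Module.Finite.of_injective (LinearMap.ker h.hom).subtype Subtype.val_injective
    · exact PreservesKernel.iso (X.smallEtaleTopology.overPullback (ModuleCat.{u + 1} Λ) W) φ ≪≫
        kernel.mapIso _ _ α β hh ≪≫ (PreservesKernel.iso (cstF Λ W) h).symm ≪≫
        (cstF Λ W).mapIso (ModuleCat.kernelIsoKer h)
  · apply isFTLocConst_of_pointwise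
    intro x
    obtain ⟨W, z, hz, M, N, hM, hN, h, α, β, hh⟩ := ftLocConst_hom_local φ hF hG x
    refine ⟨W, z, hz, ModuleCat.of Λ (N ⧸ LinearMap.range h.hom), ?_, ⟨?_⟩⟩
    · exact Module.Finite.of_surjective (LinearMap.range h.hom).mkQ
        (Submodule.mkQ_surjective _)
    · exact PreservesCokernel.iso (X.smallEtaleTopology.overPullback (ModuleCat.{u + 1} Λ) W) φ ≪≫
        cokernel.mapIso _ _ α β hh ≪≫ (PreservesCokernel.iso (cstF Λ W) h).symm ≪≫
        (cstF Λ W).mapIso (ModuleCat.cokernelIsoRangeQuotient h)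


/-- the comparison `constResIso` sends constant sections to constant sections -/
lemma constResIso_tsec {W V : X.Etale} (g : W ⟶ V) (N : ModuleCat.{u + 1} Λ) (Z : Over W)
    (m : N) :
    ((constResIso Λ g).hom.app N).hom.app (op Z)
        (tsec (X.smallEtaleTopology.over W) Λ N Z m) =
      tsec (X.smallEtaleTopology.over V) Λ N ((Over.map g).obj Z) m := by
  have h := (Over.map g).toSheafify_pullbackSheafificationCompatibility (ModuleCat.{u + 1} Λ)
    (X.smallEtaleTopology.over W) (X.smallEtaleTopology.over V)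
    ((Functor.const (Over V)ᵒᵖ).obj N)
  exact congrArg (fun φ => (φ.app (op Z)).hom m) h


/-- **extensions of finite type locally constant sheaves are finite type locally constant**
(Noetherian coefficients) -/
theorem ftLocConst_extension [IsNoetherianRing Λ] (S : ShortComplex (EtModW.Mod Λ X))
    (hS : S.ShortExact) (h1 : EtModW.IsFTLocConst Λ S.X₁) (h3 : EtModW.IsFTLocConst Λ S.X₃) :
    EtModW.IsFTLocConst Λ S.X₂ := by
  apply isFTLocConst_of_pointwise
  intro x
  obtain ⟨ι, U, hU, hFU⟩ := h1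
  obtain ⟨ι', U', hU', hGU'⟩ := h3
  obtain ⟨V, y, i, j, hy, ⟨k⟩, ⟨k'⟩⟩ := exists_common U U' hU hU' x
  obtain ⟨M, iM1, iM2, iM3, ⟨α₀⟩⟩ := hFU i
  obtain ⟨N, iN1, iN2, iN3, ⟨β₀⟩⟩ := hGU' j
  let α : S.X₁.over V ≅ (cstF Λ V).obj (ModuleCat.of Λ M) :=
    transIso k S.X₁ (ModuleCat.of Λ M) α₀
  let β : S.X₃.over V ≅ (cstF Λ V).obj (ModuleCat.of Λ N) :=
    transIso k' S.X₃ (ModuleCat.of Λ N) β₀
  haveI : Module.Finite Λ (ModuleCat.of Λ M) := iM3
  haveI : Module.Finite Λ (ModuleCat.of Λ N) := iN3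
  have hSV : (S.map (X.smallEtaleTopology.overPullback (ModuleCat.{u + 1} Λ) V)).ShortExact :=
    hS.map_of_exact _
  obtain ⟨P, hP, hPp⟩ := exists_local_ext (K := X.smallEtaleTopology.over V)
    (S.map (X.smallEtaleTopology.overPullback (ModuleCat.{u + 1} Λ) V)) hSV
    (ModuleCat.of Λ M) (ModuleCat.of Λ N) α β (Over.mk (𝟙 V))
  rw [GrothendieckTopology.mem_over_iff, mem_smallEtaleTopology_iff] at hP
  obtain ⟨W, f, z, hf, hz⟩ := hP y
  rw [Sieve.overEquiv_iff] at hf
  let g : W ⟶ V := (Over.mk (f ≫ (Over.mk (𝟙 V)).hom)).hom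
  let u : (Over.map g).obj (Over.mk (𝟙 W)) ⟶ Over.mk (f ≫ (Over.mk (𝟙 V)).hom) :=
    Over.homMk (𝟙 W) rfl
  obtain ⟨E, hE, ii, p, w, hR, σ, ha, hb⟩ := hPp _ (P.downward_closed hf u)
  refine ⟨W, z, ?_, E, hE, ?_⟩
  · rw [← hy, ← hz]
    have : g = f := Category.comp_id f
    rw [← this]
    exact (hom_left_base_eq g z).symm
  · have hSW : (S.map (X.smallEtaleTopology.overPullback (ModuleCat.{u + 1} Λ) W)).ShortExact :=
      hS.map_of_exact _
    refine Nonempty.map Iso.symm (nonempty_iso_cst_of_sections (K := X.smallEtaleTopology.over W)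
      (top := Over.mk (𝟙 W)) Over.mkIdTerminal
      (S.map (X.smallEtaleTopology.overPullback (ModuleCat.{u + 1} Λ) W)) hSW
      (ShortComplex.mk ii p w) hR
      (transIso g S.X₁ (ModuleCat.of Λ M) α).symm (transIso g S.X₃ (ModuleCat.of Λ N) β).symm σ
      ?_ ?_)
    · intro e
      have h := ha e
      refine h.trans ?_
      rw [← constResIso_tsec g (ModuleCat.of Λ N) (Over.mk (𝟙 W)) (p e)]
      rfl
    · intro m
      have h := hb m
      refine h.trans ?_
      rw [← constResIso_tsec g (ModuleCat.of Λ M) (Over.mk (𝟙 W)) m]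
      rfl

end

end Groth.Agent.Lib.Helper2.LCSite.Et
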