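import Groth.Agent.Lib.Helper2.LCSite.Serre
import Groth.Prelude.Def_EtModD2

/-!
# Tensor products of finite type locally constant sheaves (helper2)
-/

set_option autoImplicit false

universe u

open CategoryTheory CategoryTheory.Limits Opposite AlgebraicGeometry MonoidalCategory
  Enriched.FunctorCategory MonoidalClosed

namespace Groth.Agent.Lib.Helper2.LCSite.Et

open Groth.Agent.Lib.Helper22.CechU.Etale Groth.Agent.Lib.Helper2.LCSite

noncomputable section

variable (Λ : Type (u + 1)) [CommRing Λ] {X : Scheme.{u}}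

instance wIsMonoidal (W : X.Etale) :
    ((X.smallEtaleTopology.over W).W (A := ModuleCat.{u + 1} Λ)).IsMonoidal :=
  GrothendieckTopology.W.monoidal

/-- sheafification on `Et/W` -/
abbrev shW (W : X.Etale) : ((Over W)ᵒᵖ ⥤ ModuleCat.{u + 1} Λ) ⥤
    Sheaf (X.smallEtaleTopology.over W) (ModuleCat.{u + 1} Λ) :=
  presheafToSheaf (X.smallEtaleTopology.over W) (ModuleCat.{u + 1} Λ)

variable {Λ}

/-- the tensor product of two morphisms inverted by sheafification is inverted by
sheafification -/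
lemma isIso_shW_map_tensorHom (W : X.Etale) {P₁ P₁' P₂ P₂' : (Over W)ᵒᵖ ⥤ ModuleCat.{u + 1} Λ}
    (f : P₁ ⟶ P₁') (g : P₂ ⟶ P₂')
    (hf : (X.smallEtaleTopology.over W).W f) (hg : (X.smallEtaleTopology.over W).W g) :
    IsIso ((shW Λ W).map (f ⊗ₘ g)) := by
  have h1 : (X.smallEtaleTopology.over W).W (f ▷ P₂) :=
    MorphismProperty.IsMonoidal.whiskerRight _ hf _
  have h2 : (X.smallEtaleTopology.over W).W (P₁' ◁ g) :=
    MorphismProperty.IsMonoidal.whiskerLeft _ _ hg
  have h3 : (X.smallEtaleTopology.over W).W (f ⊗ₘ g) := by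
    rw [MonoidalCategory.tensorHom_def]
    exact MorphismProperty.comp_mem _ _ _ h1 h2
  exact (GrothendieckTopology.W_iff _ _).mp h3

/-- tensor product of constant presheaves -/
def constTensorIso (W : X.Etale) (M N : ModuleCat.{u + 1} Λ) :
    ((Functor.const (Over W)ᵒᵖ).obj M) ⊗ ((Functor.const (Over W)ᵒᵖ).obj N) ≅
      (Functor.const (Over W)ᵒᵖ).obj (M ⊗ N) :=
  NatIso.ofComponents (fun _ => Iso.refl _) (by
    intro U V f
    dsimp
    simp)

/-- tensor product of constant sheaves is the constant sheaf on the tensor product -/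
def cstTensorIso (W : X.Etale) (M N : ModuleCat.{u + 1} Λ) :
    (shW Λ W).obj (((cstF Λ W).obj M).obj ⊗ ((cstF Λ W).obj N).obj) ≅
      (cstF Λ W).obj (M ⊗ N) :=
  haveI := isIso_shW_map_tensorHom W
    (toSheafify (X.smallEtaleTopology.over W) ((Functor.const (Over W)ᵒᵖ).obj M))
    (toSheafify (X.smallEtaleTopology.over W) ((Functor.const (Over W)ᵒᵖ).obj N))
    (GrothendieckTopology.W_toSheafify _ _) (GrothendieckTopology.W_toSheafify _ _)
  (asIso ((shW Λ W).map
    (toSheafify (X.smallEtaleTopology.over W) ((Functor.const (Over W)ᵒᵖ).obj M) ⊗ₘ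
      toSheafify (X.smallEtaleTopology.over W) ((Functor.const (Over W)ᵒᵖ).obj N)))).symm ≪≫
    (shW Λ W).mapIso (constTensorIso W M N)

/-- restriction to `Et/W` commutes with the tensor product -/
def tensorOverIso (W : X.Etale) (F G : EtModW.Mod Λ X) :
    (((EtModD.tensorBi Λ X).obj F).obj G).over W ≅
      (shW Λ W).obj ((F.over W).obj ⊗ (G.over W).obj) :=
  (((Over.forget W).pushforwardContinuousSheafificationCompatibility (ModuleCat.{u + 1} Λ)
      (X.smallEtaleTopology.over W) X.smallEtaleTopology).app (F.obj ⊗ G.obj)).symm ≪≫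
    (shW Λ W).mapIso (NatIso.ofComponents (fun _ => Iso.refl _) (by
      intro U V f
      dsimp
      simp
      rfl))

/-- the tensor product of two finite type locally constant sheaves is finite type locally
constant -/
theorem ftLocConst_tensor (F G : EtModW.Mod Λ X) (hF : EtModW.IsFTLocConst Λ F)
    (hG : EtModW.IsFTLocConst Λ G) :
    EtModW.IsFTLocConst Λ (((EtModD.tensorBi Λ X).obj F).obj G) := by
  obtain ⟨ι, U, hU, hUF⟩ := hF
  obtain ⟨ι', U', hU', hUG⟩ := hG
  apply isFTLocConst_of_pointwise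
  intro x
  obtain ⟨V, y, i, j, hy, ⟨a⟩, ⟨b⟩⟩ := exists_common U U' hU hU' x
  obtain ⟨M, _, _, hMfin, ⟨α⟩⟩ := hUF i
  obtain ⟨N, _, _, hNfin, ⟨β⟩⟩ := hUG j
  let αV := transIso a F (ModuleCat.of Λ M) α
  let βV := transIso b G (ModuleCat.of Λ N) β
  refine ⟨V, y, hy, ModuleCat.of Λ M ⊗ ModuleCat.of Λ N, ?_, ⟨?_⟩⟩
  · exact inferInstanceAs (Module.Finite Λ (TensorProduct Λ M N))
  · exact tensorOverIso V F G ≪≫
      (shW Λ V).mapIso (MonoidalCategory.tensorIso
        ((sheafToPresheaf _ _).mapIso αV) ((sheafToPresheaf _ _).mapIso βV)) ≪≫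
      cstTensorIso V _ _

end

end Groth.Agent.Lib.Helper2.LCSite.Et
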